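/-
π-supplements over a normal subgroup whose index is a π-number, containing a given Sylow
p-subgroup.
-/
import Mathlib
import Cfsg.Prelude.Def_HallClasses

set_option autoImplicit false

namespace Cfsg.Agent.DPiHomog

/-- conjugate of a subgroup -/
abbrev cj {G : Type*} [Group G] (g : G) (K : Subgroup G) : Subgroup G :=
  K.map (MulAut.conj g).toMonoidHom

theorem mem_cj {G : Type*} [Group G] {g x : G} {K : Subgroup G} :
    x ∈ cj g K ↔ g⁻¹ * x * g ∈ K := by
  constructor
  · rintro ⟨k, hk, rfl⟩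
    simpa [mul_assoc] using hk
  · intro h
    exact ⟨_, h, by simp [mul_assoc]⟩

theorem conj_mem_cj {G : Type*} [Group G] (g : G) {k : G} {K : Subgroup G} (hk : k ∈ K) :
    g * k * g⁻¹ ∈ cj g K :=
  ⟨k, hk, rfl⟩

theorem card_cj {G : Type*} [Group G] (g : G) (K : Subgroup G) :
    Nat.card (cj g K) = Nat.card K :=
  Subgroup.card_map_of_injective (MulAut.conj g).injective

theorem cj_le_cj {G : Type*} [Group G] (g : G) {K L : Subgroup G} (h : K ≤ L) :
    cj g K ≤ cj g L :=
  Subgroup.map_mono h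

theorem isPiSubgroup_cj {G : Type*} [Group G] {π : Set ℕ} (g : G) {K : Subgroup G}
    (h : Cfsg.IsPiSubgroup π K) : Cfsg.IsPiSubgroup π (cj g K) := by
  intro q hq hd
  rw [card_cj] at hd
  exact h q hq hd

theorem isPiSubgroup_of_isPGroup {G : Type*} [Group G] [Finite G] {π : Set ℕ} {p : ℕ}
    [hp : Fact p.Prime] (hpπ : p ∈ π) {K : Subgroup G} (hK : IsPGroup p K) :
    Cfsg.IsPiSubgroup π K := by
  intro q hq hd
  obtain ⟨n, hn⟩ := IsPGroup.iff_card.1 hK
  rw [hn] at hd
  rwa [(Nat.prime_dvd_prime_iff_eq hq hp.out).1 (hq.dvd_of_dvd_pow hd)]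

/-- the join with a normalised π-subgroup is a π-subgroup -/
theorem isPiSubgroup_sup {G : Type*} [Group G] [Finite G] {π : Set ℕ} {A B : Subgroup G}
    (hA : Cfsg.IsPiSubgroup π A) (hB : Cfsg.IsPiSubgroup π B)
    (hAB : A ≤ Subgroup.normalizer (B : Set G)) : Cfsg.IsPiSubgroup π (A ⊔ B) := by
  intro q hq hd
  have hn : (B.subgroupOf (A ⊔ B)).Normal :=
    Subgroup.normal_subgroupOf_of_le_normalizer (sup_le hAB Subgroup.le_normalizer)
  let f : ↥A →* (↥(A ⊔ B) ⧸ B.subgroupOf (A ⊔ B)) :=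
    (QuotientGroup.mk' _).comp (Subgroup.inclusion (le_sup_left : A ≤ A ⊔ B))
  have hf : Function.Surjective f := by
    intro z
    obtain ⟨⟨y, hy⟩, rfl⟩ := QuotientGroup.mk'_surjective _ z
    have hy' : y ∈ (↑(A ⊔ B) : Set G) := hy
    rw [Subgroup.coe_mul_of_left_le_normalizer_right A B hAB] at hy'
    obtain ⟨a, ha, b, hb, rfl⟩ := Set.mem_mul.1 hy'
    refine ⟨⟨a, ha⟩, ?_⟩
    refine QuotientGroup.eq.2 ?_
    show (a : G)⁻¹ * (a * b) ∈ B
    simpa using hb
  rw [← Subgroup.index_mul_card (B.subgroupOf (A ⊔ B)),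
    Nat.card_congr (Subgroup.subgroupOfEquivOfLe (le_sup_right : B ≤ A ⊔ B)).toEquiv] at hd
  rcases hq.dvd_mul.1 hd with h | h
  · exact hA q hq (h.trans (Subgroup.card_dvd_of_surjective f hf))
  · exact hB q hq h

/-- a π-supplement of a normal subgroup of π-index containing a Sylow p-subgroup -/
theorem exists_supplement {N : Type*} [Group N] [Finite N] {π : Set ℕ} {p : ℕ} [hp : Fact p.Prime]
    (hpπ : p ∈ π) (C : Subgroup N) [hC : C.Normal]
    (hidx : ∀ q : ℕ, q.Prime → q ∣ C.index → q ∈ π) (Q : Sylow p N) :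
    ∃ T : Subgroup N, Cfsg.IsPiSubgroup π T ∧ (Q : Subgroup N) ≤ T ∧ C ⊔ T = ⊤ := by
  classical
  let S : Sylow p C := default
  set Sm : Subgroup N := (S : Subgroup C).map C.subtype with hSm
  have hSmC : Sm ≤ C := Subgroup.map_subtype_le _
  have hfr : C ⊔ Subgroup.normalizer (Sm : Set N) = ⊤ := by
    rw [sup_comm]
    exact Sylow.normalizer_sup_eq_top S
  obtain ⟨T0, -, hT0m⟩ := Finite.exists_le_minimal
    (p := fun T : Subgroup N => T ≤ Subgroup.normalizer (Sm : Set N) ∧ C ⊔ T = ⊤) ⟨le_rfl, hfr⟩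
  obtain ⟨hT0N, hT0⟩ := hT0m.prop
  have hmin : ∀ T : Subgroup N, T ≤ T0 → C ⊔ T = ⊤ → T0 ≤ T := fun T hle hs =>
    hT0m.le_of_le ⟨hle.trans hT0N, hs⟩ hle
  have hrel : ∀ T : Subgroup N, C ⊔ T = ⊤ → (C.subgroupOf T).index = C.index := by
    intro T hT
    show C.relIndex T = C.index
    rw [← Subgroup.relIndex_sup_right, sup_comm, hT, Subgroup.relIndex_top_right]
  -- `T0` is a π-group
  have hT0π : Cfsg.IsPiSubgroup π T0 := by
    intro q hq hqd
    by_contra hqπ
    have := Fact.mk hq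
    set M := C.subgroupOf T0 with hM
    have hMn : M.Normal := Subgroup.Normal.subgroupOf hC _
    let Q0 : Sylow q T0 := default
    have hQ0M : (Q0 : Subgroup T0) ≤ M := by
      intro x hx
      rw [← QuotientGroup.eq_one_iff (N := M), ← orderOf_eq_one_iff]
      by_contra hne
      obtain ⟨r, hr, hrd⟩ := Nat.exists_prime_and_dvd hne
      obtain ⟨k, hk⟩ := IsPGroup.iff_orderOf.1 Q0.2 ⟨x, hx⟩
      have h1 : r ∣ q ^ k := by
        rw [← hk]
        refine hrd.trans ?_
        have := orderOf_map_dvd (QuotientGroup.mk' M) x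
        rw [Subgroup.orderOf_mk]
        exact this
      rw [(Nat.prime_dvd_prime_iff_eq hr hq).1 (hr.dvd_of_dvd_pow h1)] at hrd
      refine hqπ (hidx q hq ?_)
      rw [← hrel T0 hT0]
      exact hrd.trans (orderOf_dvd_natCard _)
    -- Frattini
    have hQn : (Q0 : Subgroup T0).Normal := by
      let Q1 : Sylow q M := Q0.subtype hQ0M
      have hmap : (Q1 : Subgroup M).map M.subtype = (Q0 : Subgroup T0) := by
        show ((Q0 : Subgroup T0).subgroupOf M).map M.subtype = _
        exact Subgroup.map_subgroupOf_eq_of_le hQ0M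
      have h1 := Sylow.normalizer_sup_eq_top Q1
      rw [hmap] at h1
      set Nq := Subgroup.normalizer ((Q0 : Subgroup T0) : Set T0)
      have h2 : C ⊔ Nq.map T0.subtype = ⊤ := by
        rw [eq_top_iff, ← hT0]
        refine sup_le le_sup_left ?_
        intro t ht
        have h3 : (⟨t, ht⟩ : T0) ∈ Nq ⊔ M := h1 ▸ Subgroup.mem_top _
        have h4 : (Nq ⊔ M).map T0.subtype ≤ C ⊔ Nq.map T0.subtype := by
          rw [Subgroup.map_sup]
          exact sup_le le_sup_right ((Subgroup.map_comap_le _ _).trans le_sup_left)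
        exact h4 ⟨_, h3, rfl⟩
      have h5 := hmin _ (Subgroup.map_subtype_le _) h2
      rw [← Subgroup.normalizer_eq_top_iff, eq_top_iff]
      intro t _
      obtain ⟨t', ht', he⟩ := h5 t.2
      exact Subtype.ext he ▸ ht'
    obtain ⟨K, hK⟩ := Subgroup.exists_right_complement'_of_coprime
      (N := (Q0 : Subgroup T0)) Q0.card_coprime_index
    have hKtop : K = ⊤ := by
      have h2 : C ⊔ K.map T0.subtype = ⊤ := by
        rw [eq_top_iff, ← hT0]
        refine sup_le le_sup_left ?_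
        intro t ht
        have h3 : (⟨t, ht⟩ : T0) ∈ (Q0 : Subgroup T0) ⊔ K := hK.sup_eq_top ▸ Subgroup.mem_top _
        have h4 : ((Q0 : Subgroup T0) ⊔ K).map T0.subtype ≤ C ⊔ K.map T0.subtype := by
          rw [Subgroup.map_sup]
          refine sup_le ?_ le_sup_right
          exact ((Subgroup.map_mono hQ0M).trans (Subgroup.map_comap_le _ _)).trans le_sup_left
        exact h4 ⟨_, h3, rfl⟩
      have h5 := hmin _ (Subgroup.map_subtype_le _) h2
      rw [eq_top_iff]
      intro t _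
      obtain ⟨t', ht', he⟩ := h5 t.2
      exact Subtype.ext he ▸ ht'
    have hbot : (Q0 : Subgroup T0) = ⊥ := by
      have := hK.disjoint.eq_bot
      rwa [hKtop, inf_top_eq] at this
    exact Q0.ne_bot_of_dvd_card hqd hbot
  -- add the Sylow subgroup of `C`
  set T1 := T0 ⊔ Sm with hT1
  have hSmP : IsPGroup p Sm := S.2.map _
  have hT1π : Cfsg.IsPiSubgroup π T1 :=
    isPiSubgroup_sup hT0π (isPiSubgroup_of_isPGroup hpπ hSmP) hT0N
  have hT1top : C ⊔ T1 = ⊤ := eq_top_mono (sup_le_sup_left le_sup_left _) hT0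
  have hdvd : Nat.card Q ∣ Nat.card T1 := by
    have e1 : Nat.card T1 = C.index * Nat.card (C.subgroupOf T1) := by
      rw [← hrel T1 hT1top, Subgroup.index_mul_card]
    have e2 : Nat.card Sm ∣ Nat.card (C.subgroupOf T1) := by
      rw [← Nat.card_congr (Subgroup.subgroupOfEquivOfLe (le_sup_right : Sm ≤ T1)).toEquiv]
      exact Subgroup.card_dvd_of_le fun x hx => hSmC hx
    have e3 : Nat.card Sm = p ^ (Nat.card C).factorization p := by
      rw [hSm, Subgroup.card_map_of_injective C.subtype_injective, ← Sylow.card_eq_multiplicity S]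
    rw [e1, Sylow.card_eq_multiplicity Q, ← C.index_mul_card,
      Nat.factorization_mul C.index_ne_zero_of_finite Nat.card_pos.ne', Finsupp.coe_add,
      Pi.add_apply, pow_add]
    exact mul_dvd_mul (Nat.ordProj_dvd _ _) (e3 ▸ e2)
  obtain ⟨e, he⟩ := IsPGroup.iff_card.1 Q.2
  rw [he] at hdvd
  obtain ⟨R, hR⟩ := Sylow.exists_subgroup_card_pow_prime p hdvd
  have hRp : IsPGroup p (R.map T1.subtype) := (IsPGroup.of_card hR).map _
  obtain ⟨Q', hQ'⟩ := hRp.exists_le_sylow
  have hQ'eq : R.map T1.subtype = (Q' : Subgroup N) := by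
    refine Subgroup.eq_of_le_of_card_ge hQ' ?_
    rw [Subgroup.card_map_of_injective T1.subtype_injective, hR, ← he,
      Sylow.card_eq_multiplicity Q, Sylow.card_eq_multiplicity Q']
  obtain ⟨n, hn⟩ := MulAction.exists_smul_eq N Q' Q
  refine ⟨cj n T1, isPiSubgroup_cj n hT1π, ?_, ?_⟩
  · rw [← hn, Sylow.coe_subgroup_smul, Subgroup.pointwise_smul_def, ← hQ'eq]
    exact Subgroup.map_mono (Subgroup.map_subtype_le R)
  · rw [eq_top_iff]
    intro x _
    have h1 : n⁻¹ * x * n ∈ C ⊔ T1 := hT1top ▸ Subgroup.mem_top _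
    rw [Subgroup.mem_sup_of_normal_left] at h1
    obtain ⟨c, hc, t, ht, hct⟩ := h1
    have h2 : x = (n * c * n⁻¹) * (n * t * n⁻¹) := by
      have h3 : x = n * (c * t) * n⁻¹ := by rw [hct]; group
      rw [h3]; group
    rw [h2]
    exact Subgroup.mul_mem_sup (hC.conj_mem c hc n) (conj_mem_cj n ht)

end Cfsg.Agent.DPiHomog
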