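/-
A `D_π`-group in which `N(D)/C(D)` is a π-group for every nontrivial π-subgroup `D` has a normal
π-complement: the maximal π-subgroup `H` controls fusion of its elements, so the Brauer-Suzuki
criterion applies.
-/
import Cfsg.Agent.Lib.DPiHomog.Supplement
import Cfsg.Agent.Lib.Char.BrauerSuzuki

set_option autoImplicit false

namespace Cfsg.Agent.DPiHomog

/-- every π-subgroup of `L` is `L`-conjugate into `H` -/
def DomIn {G : Type*} [Group G] (π : Set ℕ) (L H : Subgroup G) : Prop :=
  ∀ T : Subgroup G, T ≤ L → Cfsg.IsPiSubgroup π T → ∃ g ∈ L, ∀ t ∈ T, g * t * g⁻¹ ∈ H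

/-- `N(D)/C(D)` is a π-group for all nontrivial π-subgroups -/
def Homog (π : Set ℕ) (G : Type*) [Group G] : Prop :=
  ∀ H : Subgroup G, H ≠ ⊥ → (∀ p : ℕ, p.Prime → p ∣ Nat.card ↥H → p ∈ π) →
    ∀ p : ℕ, p.Prime →
      p ∣ (Subgroup.centralizer (H : Set G)).relIndex (Subgroup.normalizer (H : Set G)) → p ∈ π

/-- normalisers grow in a p-group -/
theorem card_lt_card_inf_normalizer {G : Type*} [Group G] [Finite G] {p : ℕ} [hp : Fact p.Prime]
    {P K : Subgroup G} (hP : IsPGroup p P) (hKP : K ≤ P) (hne : Nat.card K < Nat.card P) :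
    Nat.card K < Nat.card ↥(P ⊓ Subgroup.normalizer (K : Set G)) := by
  have hnil : Group.IsNilpotent P := hP.isNilpotent
  have h1 : K.subgroupOf P < ⊤ := by
    refine lt_top_iff_ne_top.2 fun h => ?_
    rw [Subgroup.subgroupOf_eq_top] at h
    exact absurd (Subgroup.card_le_of_le h) (not_le.2 hne)
  have h2 := Group.normalizerCondition_of_isNilpotent _ h1
  obtain ⟨x, hx, hxK⟩ := SetLike.exists_of_lt h2
  have hxN : (x : G) ∈ Subgroup.normalizer (K : Set G) := by
    rw [← Subgroup.subgroupOf_normalizer_eq hKP] at hx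
    exact hx
  have hle : K ≤ P ⊓ Subgroup.normalizer (K : Set G) := le_inf hKP Subgroup.le_normalizer
  refine lt_of_le_of_ne (Subgroup.card_le_of_le hle) fun h => hxK ?_
  have he := Subgroup.eq_of_le_of_card_ge hle h.ge
  show (x : G) ∈ K
  rw [he]
  exact ⟨x.2, hxN⟩

/-- a Sylow subgroup inside `H` -/
theorem exists_sylow_le {G : Type*} [Group G] [Finite G] {π : Set ℕ} {H : Subgroup G}
    (hd : DomIn π ⊤ H) {p : ℕ} [hp : Fact p.Prime] (hpπ : p ∈ π) :
    ∃ P : Sylow p G, (P : Subgroup G) ≤ H := by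
  let P0 : Sylow p G := default
  obtain ⟨g, -, hg⟩ := hd P0 le_top (isPiSubgroup_of_isPGroup hpπ P0.2)
  refine ⟨g • P0, ?_⟩
  rw [Sylow.coe_subgroup_smul, Subgroup.pointwise_smul_def]
  rintro x ⟨y, hy, rfl⟩
  exact hg y hy

/-- moving a p-subgroup of `H` into a given Sylow subgroup inside `H` -/
theorem exists_conj_le_sylow {G : Type*} [Group G] [Finite G] {H : Subgroup G} {p : ℕ}
    [hp : Fact p.Prime] (P : Sylow p G) (hPH : (P : Subgroup G) ≤ H) {D : Subgroup G}
    (hD : IsPGroup p D) (hDH : D ≤ H) : ∃ h ∈ H, ∀ d ∈ D, h * d * h⁻¹ ∈ (P : Subgroup G) := by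
  obtain ⟨R, hR⟩ := (hD.of_equiv (Subgroup.subgroupOfEquivOfLe hDH).symm).exists_le_sylow
  obtain ⟨h, hh⟩ := MulAction.exists_smul_eq H R (P.subtype hPH)
  refine ⟨h, h.2, fun d hd => ?_⟩
  have h1 : h • (⟨d, hDH hd⟩ : H) ∈ ((h • R : Sylow p H) : Subgroup H) ↔ _ := Iff.rfl
  have h2 : (MulAut.conj h) (⟨d, hDH hd⟩ : H) ∈ ((h • R : Sylow p H) : Subgroup H) := by
    rw [Sylow.coe_subgroup_smul, Subgroup.pointwise_smul_def]
    exact ⟨_, hR hd, rfl⟩
  rw [hh] at h2
  exact h2

/-- fusion of p-subgroups is controlled by `H` -/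
theorem fuse_p {G : Type*} [Group G] [Finite G] {π : Set ℕ} {H : Subgroup G}
    (hd : DomIn π ⊤ H) (hhom : Homog π G) {p : ℕ} [hp : Fact p.Prime] (hpπ : p ∈ π)
    {D : Subgroup G} (hD : IsPGroup p D) (hDH : D ≤ H) {g : G} (hg : ∀ d ∈ D, g * d * g⁻¹ ∈ H) :
    ∃ h ∈ H, ∀ d ∈ D, h * d * h⁻¹ = g * d * g⁻¹ := by
  obtain ⟨P, hPH⟩ := exists_sylow_le hd hpπ
  suffices key : ∀ n, ∀ D : Subgroup G, IsPGroup p D →
      Nat.card (P : Subgroup G) - Nat.card D = n → D ≤ H →
      ∀ g : G, (∀ d ∈ D, g * d * g⁻¹ ∈ H) → ∃ h ∈ H, ∀ d ∈ D, h * d * h⁻¹ = g * d * g⁻¹ from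
    key _ D hD rfl hDH g hg
  intro n
  induction n using Nat.strong_induction_on with
  | _ n ih =>
    intro D hD hn hDH g hg
    rcases eq_or_ne D ⊥ with rfl | hD1
    · refine ⟨1, H.one_mem, fun d hd => ?_⟩
      rw [Subgroup.mem_bot] at hd
      simp [hd]
    -- the induction step for a larger p-subgroup
    have IH : ∀ A : Subgroup G, A ≤ P → Nat.card D < Nat.card A → ∀ w : G,
        (∀ a ∈ A, w * a * w⁻¹ ∈ H) → ∃ h ∈ H, ∀ a ∈ A, h * a * h⁻¹ = w * a * w⁻¹ := by
      intro A hAP hcard w hw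
      have := Subgroup.card_le_of_le hAP
      exact ih _ (by omega) A (P.2.to_le hAP) rfl (hAP.trans hPH) w hw
    -- into `P`
    obtain ⟨h1, hh1, hh1P⟩ := exists_conj_le_sylow P hPH hD hDH
    set D0 := cj h1 D with hD0
    have hD0P : D0 ≤ P := by
      rintro x ⟨d, hd, rfl⟩
      exact hh1P d hd
    -- a fully normalised conjugate
    obtain ⟨k, hk, E, hEP, hDE, hfull⟩ : ∃ k ∈ H, ∃ E : Subgroup G, E ≤ (P : Subgroup G) ∧
        E = cj k D ∧ ∀ R : Subgroup G, IsPGroup p R → R ≤ Subgroup.normalizer (E : Set G) →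
          Nat.card R ≤ Nat.card ↥((P : Subgroup G) ⊓ Subgroup.normalizer (E : Set G)) := by
      by_cases hcase : Nat.card D < Nat.card (P : Subgroup G)
      · set N0 := Subgroup.normalizer (D0 : Set G)
        set A := (P : Subgroup G) ⊓ N0 with hA
        obtain ⟨R, hR⟩ :=
          ((P.2.to_le (inf_le_left : A ≤ P)).of_equiv
            (Subgroup.subgroupOfEquivOfLe (inf_le_right : A ≤ N0)).symm).exists_le_sylow
        have hRp : IsPGroup p ((R : Subgroup N0).map N0.subtype) := R.2.map _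
        obtain ⟨P', hP'⟩ := hRp.exists_le_sylow
        obtain ⟨y, hy⟩ := MulAction.exists_smul_eq G P' P
        have hyR : cj y ((R : Subgroup N0).map N0.subtype) ≤ (P : Subgroup G) := by
          rw [← hy, Sylow.coe_subgroup_smul, Subgroup.pointwise_smul_def]
          exact Subgroup.map_mono hP'
        have hAR : A ≤ (R : Subgroup N0).map N0.subtype := fun a ha =>
          ⟨⟨a, ha.2⟩, hR ha, rfl⟩
        have hcardA : Nat.card D < Nat.card A := by
          have := card_lt_card_inf_normalizer P.2 hD0P (by rwa [card_cj])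
          rwa [card_cj] at this
        obtain ⟨h, hh, hact⟩ := IH A inf_le_left hcardA y fun a ha =>
          hPH (hyR (conj_mem_cj y (hAR ha)))
        have hD0A : D0 ≤ A := le_inf hD0P Subgroup.le_normalizer
        refine ⟨h * h1, H.mul_mem hh hh1, cj y D0, ?_, ?_, ?_⟩
        · exact (cj_le_cj y (hD0A.trans hAR)).trans hyR
        · ext x
          constructor
          · rintro ⟨d0, ⟨d, hd, rfl⟩, rfl⟩
            refine ⟨d, hd, ?_⟩
            have e := hact _ (hD0A ⟨d, hd, rfl⟩)
            simp only [MulEquiv.coe_toMonoidHom, MulAut.conj_apply] at e ⊢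
            rw [← e]; group
          · rintro ⟨d, hd, rfl⟩
            refine ⟨_, ⟨d, hd, rfl⟩, ?_⟩
            have e := hact _ (hD0A ⟨d, hd, rfl⟩)
            simp only [MulEquiv.coe_toMonoidHom, MulAut.conj_apply] at e ⊢
            rw [← e]; group
        · intro R' hR' hR'N
          have hback : cj y⁻¹ R' ≤ N0 := by
            have hN : Subgroup.normalizer ((cj y D0 : Subgroup G) : Set G) = cj y N0 :=
              (Subgroup.map_equiv_normalizer_eq D0 (MulAut.conj y)).symm
            rw [hN] at hR'N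
            rintro x ⟨r, hr, rfl⟩
            have := mem_cj.1 (hR'N hr)
            simpa using this
          have hp2 : IsPGroup p ((cj y⁻¹ R').subgroupOf N0) :=
            (hR'.map _).of_equiv (Subgroup.subgroupOfEquivOfLe hback).symm
          obtain ⟨R2, hR2⟩ := hp2.exists_le_sylow
          have h3 := Subgroup.card_le_of_le hR2
          rw [Nat.card_congr (Subgroup.subgroupOfEquivOfLe hback).toEquiv, card_cj,
            Sylow.card_eq_multiplicity R2, ← Sylow.card_eq_multiplicity R,
            ← Subgroup.card_map_of_injective N0.subtype_injective] at h3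
          refine h3.trans ((card_cj y _).ge.trans (Subgroup.card_le_of_le (le_inf hyR ?_)))
          rw [show Subgroup.normalizer ((cj y D0 : Subgroup G) : Set G) = cj y N0 from
            (Subgroup.map_equiv_normalizer_eq D0 (MulAut.conj y)).symm]
          exact cj_le_cj y (Subgroup.map_subtype_le _)
      · refine ⟨h1, hh1, D0, hD0P, rfl, fun R hR _ => ?_⟩
        have he : D0 = (P : Subgroup G) :=
          Subgroup.eq_of_le_of_card_ge hD0P (by rw [card_cj]; omega)
        rw [he, inf_eq_left.2 Subgroup.le_normalizer]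
        obtain ⟨P', hP'⟩ := hR.exists_le_sylow
        refine (Subgroup.card_le_of_le hP').trans ?_
        rw [Sylow.card_eq_multiplicity P', ← Sylow.card_eq_multiplicity P]
    subst hDE
    set E := cj k D with hE
    have hEH : E ≤ H := hEP.trans hPH
    -- move the image into `P`
    obtain ⟨h2, hh2, hh2P⟩ := exists_conj_le_sylow P hPH (D := cj g D) (hD.map _)
      (by rintro x ⟨d, hd, rfl⟩; exact hg d hd)
    set gg := h2 * g * k⁻¹ with hgg
    have hggP : ∀ e ∈ E, gg * e * gg⁻¹ ∈ (P : Subgroup G) := by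
      rintro e ⟨d, hd, rfl⟩
      have e1 : gg * (MulAut.conj k).toMonoidHom d * gg⁻¹ = h2 * (g * d * g⁻¹) * h2⁻¹ := by
        simp only [MulEquiv.coe_toMonoidHom, MulAut.conj_apply, hgg]; group
      rw [e1]
      exact hh2P _ (conj_mem_cj g hd)
    set N := Subgroup.normalizer (E : Set G) with hN
    -- `gg` differs from an element of `N` by an element of `H`
    obtain ⟨h3, hh3, nn, hnn, hact3⟩ : ∃ h3 ∈ H, ∃ nn ∈ N, ∀ e ∈ E,
        gg * e * gg⁻¹ = h3 * (nn * e * nn⁻¹) * h3⁻¹ := by
      by_cases hcase : Nat.card D < Nat.card (P : Subgroup G)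
      · set E' := cj gg E with hE'
        have hE'P : E' ≤ P := by
          rintro x ⟨e, he, rfl⟩
          exact hggP e he
        set A := (P : Subgroup G) ⊓ Subgroup.normalizer (E' : Set G) with hA
        have hN' : Subgroup.normalizer (E' : Set G) = cj gg N :=
          (Subgroup.map_equiv_normalizer_eq E (MulAut.conj gg)).symm
        have hback : cj gg⁻¹ A ≤ N := by
          rintro x ⟨a, ha, rfl⟩
          have := mem_cj.1 (hN' ▸ ha.2)
          simpa using this
        set Q0 := (P : Subgroup G) ⊓ N with hQ0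
        obtain ⟨R, hR⟩ := (((P.2.to_le (inf_le_left : A ≤ P)).map _).of_equiv
          (Subgroup.subgroupOfEquivOfLe hback).symm).exists_le_sylow
        obtain ⟨R0, hR0⟩ := ((P.2.to_le (inf_le_left : Q0 ≤ P)).of_equiv
          (Subgroup.subgroupOfEquivOfLe (inf_le_right : Q0 ≤ N)).symm).exists_le_sylow
        have hR0eq : (R0 : Subgroup N) = Q0.subgroupOf N := by
          refine (Subgroup.eq_of_le_of_card_ge hR0 ?_).symm
          rw [Nat.card_congr (Subgroup.subgroupOfEquivOfLe (inf_le_right : Q0 ≤ N)).toEquiv,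
            ← Subgroup.card_map_of_injective N.subtype_injective]
          exact hfull _ (R0.2.map _) (Subgroup.map_subtype_le _)
        obtain ⟨m, hm⟩ := MulAction.exists_smul_eq N R R0
        set w := (m : G) * gg⁻¹ with hw
        have hwA : ∀ a ∈ A, w * a * w⁻¹ ∈ Q0 := by
          intro a ha
          have h0 : gg⁻¹ * a * gg ∈ cj gg⁻¹ A := mem_cj.2 (by simpa [mul_assoc] using ha)
          have h1 : (⟨gg⁻¹ * a * gg, hback h0⟩ : N) ∈ (R : Subgroup N) := hR h0
          have h2 : (MulAut.conj m) (⟨gg⁻¹ * a * gg, hback h0⟩ : N)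
              ∈ ((m • R : Sylow p N) : Subgroup N) := by
            rw [Sylow.coe_subgroup_smul, Subgroup.pointwise_smul_def]
            exact ⟨_, h1, rfl⟩
          rw [hm, hR0eq, Subgroup.mem_subgroupOf] at h2
          convert h2 using 1
          simp [hw, mul_assoc]
        have hE'A : E' ≤ A := le_inf hE'P Subgroup.le_normalizer
        have hcardA : Nat.card D < Nat.card A := by
          have h' : Nat.card E' = Nat.card D := by rw [card_cj, card_cj]
          have := card_lt_card_inf_normalizer P.2 hE'P (by rw [h']; exact hcase)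
          rwa [h'] at this
        obtain ⟨h, hh, hact⟩ := IH A inf_le_left hcardA w fun a ha => hPH (hwA a ha).1
        refine ⟨h⁻¹, H.inv_mem hh, m, m.2, fun e he => ?_⟩
        have e1 := hact _ (hE'A (conj_mem_cj gg he))
        have e2 : w * (gg * e * gg⁻¹) * w⁻¹ = (m : G) * e * (m : G)⁻¹ := by
          rw [hw]; group
        rw [← e2, ← e1]; group
      · have hEeq : E = (P : Subgroup G) :=
          Subgroup.eq_of_le_of_card_ge hEP (by rw [card_cj]; omega)
        refine ⟨1, H.one_mem, gg, ?_, fun e _ => by group⟩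
        refine Subgroup.mem_normalizer_fintype fun e he => ?_
        rw [SetLike.mem_coe, hEeq]
        exact hggP e he
    -- realise `nn` inside `H`
    obtain ⟨hn', hhn', hactn⟩ : ∃ h ∈ H, ∀ e ∈ E, h * e * h⁻¹ = nn * e * nn⁻¹ := by
      set C := Subgroup.centralizer (E : Set G) with hC
      have hCn : (C.subgroupOf N).Normal :=
        Subgroup.normal_subgroupOf_centralizer_normalizer (E : Set G)
      have hE1 : E ≠ ⊥ := fun h => hD1 (Subgroup.card_eq_one.1 (by
        rw [← card_cj k, ← hE, h, Subgroup.card_bot]))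
      have hidx : ∀ q : ℕ, q.Prime → q ∣ (C.subgroupOf N).index → q ∈ π := fun q hq hd =>
        hhom E hE1 (isPiSubgroup_of_isPGroup hpπ (hD.map _)) q hq hd
      set Q0 := (P : Subgroup G) ⊓ N with hQ0
      obtain ⟨R0, hR0⟩ := ((P.2.to_le (inf_le_left : Q0 ≤ P)).of_equiv
          (Subgroup.subgroupOfEquivOfLe (inf_le_right : Q0 ≤ N)).symm).exists_le_sylow
      obtain ⟨T, hTπ, hQT, hCT⟩ := exists_supplement hpπ (C.subgroupOf N) hidx R0
      have hTmπ : Cfsg.IsPiSubgroup π (T.map N.subtype) := by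
        intro q hq hd
        rw [Subgroup.card_map_of_injective N.subtype_injective] at hd
        exact hTπ q hq hd
      obtain ⟨g1, -, hg1⟩ := hd (T.map N.subtype) le_top hTmπ
      obtain ⟨c, hcN, hcT⟩ : ∃ c ∈ N, ∀ t ∈ T.map N.subtype, c * t * c⁻¹ ∈ H := by
        have hQ0T : Q0 ≤ T.map N.subtype := fun x hx =>
          ⟨⟨x, hx.2⟩, hQT (hR0 (show (⟨x, hx.2⟩ : N) ∈ Q0.subgroupOf N from hx)), rfl⟩
        by_cases hcase : Nat.card D < Nat.card (P : Subgroup G)
        · have hcardA : Nat.card D < Nat.card Q0 := by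
            have := card_lt_card_inf_normalizer P.2 hEP (by rwa [card_cj])
            rwa [card_cj] at this
          obtain ⟨h, hh, hact⟩ := IH Q0 inf_le_left hcardA g1 fun a ha => hg1 a (hQ0T ha)
          refine ⟨h⁻¹ * g1, ?_, fun t ht => ?_⟩
          · refine Subgroup.centralizer_le_normalizer _ ?_
            rw [Subgroup.mem_centralizer_iff]
            intro e he
            have e1 := hact e ⟨hEP he, Subgroup.le_normalizer he⟩
            calc e * (h⁻¹ * g1) = h⁻¹ * (h * e * h⁻¹) * g1 := by group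
              _ = h⁻¹ * g1 * e := by rw [e1]; group
          · have : h⁻¹ * g1 * t * (h⁻¹ * g1)⁻¹ = h⁻¹ * (g1 * t * g1⁻¹) * h := by group
            rw [this]
            exact H.mul_mem (H.mul_mem (H.inv_mem hh) (hg1 t ht)) hh
        · have hEeq : E = (P : Subgroup G) :=
            Subgroup.eq_of_le_of_card_ge hEP (by rw [card_cj]; omega)
          have hPT : (P : Subgroup G) ≤ T.map N.subtype :=
            (le_inf le_rfl (hEeq ▸ Subgroup.le_normalizer)).trans hQ0T
          obtain ⟨h, hh, hhP⟩ := exists_conj_le_sylow P hPH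
            (D := cj g1 (P : Subgroup G)) (P.2.map _)
            (by rintro x ⟨a, ha, rfl⟩; exact hg1 a (hPT ha))
          refine ⟨h * g1, Subgroup.mem_normalizer_fintype fun e he => ?_, fun t ht => ?_⟩
          · rw [SetLike.mem_coe, hEeq] at he ⊢
            have := hhP _ (conj_mem_cj g1 he)
            convert this using 1
            group
          · have : h * g1 * t * (h * g1)⁻¹ = h * (g1 * t * g1⁻¹) * h⁻¹ := by group
            rw [this]
            exact H.mul_mem (H.mul_mem hh (hg1 t ht)) (H.inv_mem hh)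
      have hmem : (⟨c⁻¹ * nn * c, N.mul_mem (N.mul_mem (N.inv_mem hcN) hnn) hcN⟩ : N) ∈
          C.subgroupOf N ⊔ T := hCT ▸ Subgroup.mem_top _
      rw [Subgroup.mem_sup_of_normal_left] at hmem
      obtain ⟨c0, hc0, t, ht, hct⟩ := hmem
      have hct' : (c0 : G) * (t : G) = c⁻¹ * nn * c := by
        have := congrArg Subtype.val hct
        simpa using this
      refine ⟨c * t * c⁻¹, hcT _ ⟨t, ht, rfl⟩, fun e he => ?_⟩
      have e0 : nn = (c * c0 * c⁻¹) * (c * t * c⁻¹) := by
        have : nn = c * ((c0 : G) * t) * c⁻¹ := by rw [hct']; group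
        rw [this]; group
      have hce : c * c0 * c⁻¹ ∈ C := by
        exact hCn.conj_mem c0 hc0 ⟨c, hcN⟩
      set x := c * (t : G) * c⁻¹ with hx
      have hxN : x ∈ N := N.mul_mem (N.mul_mem hcN t.2) (N.inv_mem hcN)
      have he' : x * e * x⁻¹ ∈ (E : Set G) := ((Subgroup.mem_normalizer_iff).1 hxN e).1 he
      have e3 := (Subgroup.mem_centralizer_iff.1 hce) _ he'
      rw [e0]
      calc x * e * x⁻¹ = (x * e * x⁻¹) * (c * c0 * c⁻¹) * (c * c0 * c⁻¹)⁻¹ := by group
        _ = (c * c0 * c⁻¹) * x * e * (c * c0 * c⁻¹ * x)⁻¹ := by rw [e3]; group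
    refine ⟨h2⁻¹ * h3 * hn' * k,
      H.mul_mem (H.mul_mem (H.mul_mem (H.inv_mem hh2) hh3) hhn') hk, fun d hd => ?_⟩
    have hke : k * d * k⁻¹ ∈ E := conj_mem_cj k hd
    have e1 : h2⁻¹ * h3 * hn' * k * d * (h2⁻¹ * h3 * hn' * k)⁻¹ =
        h2⁻¹ * (h3 * (hn' * (k * d * k⁻¹) * hn'⁻¹) * h3⁻¹) * h2 := by group
    rw [e1, hactn _ hke, ← hact3 _ hke, hgg]
    group

end Cfsg.Agent.DPiHomog
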