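/-
`H` controls fusion of all its elements; hence a normal π-complement.
-/
import Cfsg.Agent.Lib.DPiHomog.Fusion

set_option autoImplicit false

namespace Cfsg.Agent.DPiHomog

variable {G : Type*} [Group G] [Finite G] {π : Set ℕ}

/-- homogeneity passes to subgroups -/
theorem homog_subgroup (hhom : Homog π G) (L : Subgroup G) : Homog π L := by
  intro D hD hDπ p hp hd
  set D' := D.map L.subtype with hD'
  have hne : D' ≠ ⊥ := by
    rw [hD', Ne, Subgroup.map_eq_bot_iff_of_injective _ L.subtype_injective]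
    exact hD
  refine hhom D' hne (fun q hq hqd => hDπ q hq ?_) p hp (hd.trans ?_)
  · rwa [hD', Subgroup.card_map_of_injective L.subtype_injective] at hqd
  have hNle : (Subgroup.normalizer (D : Set L)).map L.subtype ≤
      Subgroup.normalizer (D' : Set G) := Subgroup.le_normalizer_map L.subtype
  have hC : Subgroup.centralizer (D : Set L) =
      (Subgroup.centralizer (D' : Set G)).comap L.subtype := by
    ext x
    simp only [Subgroup.mem_comap, Subgroup.mem_centralizer_iff, hD', Subgroup.coe_map]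
    constructor
    · rintro h _ ⟨d, hd, rfl⟩
      simpa using congrArg Subtype.val (h d hd)
    · intro h d hd
      exact Subtype.ext (by simpa using h _ ⟨d, hd, rfl⟩)
  rw [hC, Subgroup.relIndex_comap]
  set N' := Subgroup.normalizer (D' : Set G)
  set C' := Subgroup.centralizer (D' : Set G)
  have := Subgroup.normal_subgroupOf_centralizer_normalizer (D' : Set G)
  rw [← Subgroup.relIndex_subgroupOf hNle (H := C')]
  exact Subgroup.relIndex_dvd_index_of_normal _ _

/-- the version of `fuse_p` inside a subgroup -/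
theorem fuse_p_in {H : Subgroup G} (hhom : Homog π G) {L : Subgroup G}
    (hdom : DomIn π L H) {p : ℕ} [hp : Fact p.Prime] (hpπ : p ∈ π)
    {D : Subgroup G} (hD : IsPGroup p D) (hDH : D ≤ H) (hDL : D ≤ L) {g : G} (hgL : g ∈ L)
    (hg : ∀ d ∈ D, g * d * g⁻¹ ∈ H) :
    ∃ h ∈ H ⊓ L, ∀ d ∈ D, h * d * h⁻¹ = g * d * g⁻¹ := by
  have hd' : DomIn π (⊤ : Subgroup L) (H.subgroupOf L) := by
    intro T _ hT
    obtain ⟨g', hg'L, hg'⟩ := hdom (T.map L.subtype) (Subgroup.map_subtype_le T) (fun q hq hqd => by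
      rw [Subgroup.card_map_of_injective L.subtype_injective] at hqd
      exact hT q hq hqd)
    exact ⟨⟨g', hg'L⟩, Subgroup.mem_top _, fun t ht => hg' _ ⟨t, ht, rfl⟩⟩
  obtain ⟨h, hh, hact⟩ := fuse_p hd' (homog_subgroup hhom L) hpπ
    (D := D.subgroupOf L) (hD.of_equiv (Subgroup.subgroupOfEquivOfLe hDL).symm)
    (fun x hx => hDH hx) (g := ⟨g, hgL⟩) (fun d hd => hg d hd)
  exact ⟨h, ⟨hh, h.2⟩, fun d hd => congrArg Subtype.val (hact ⟨d, hDL hd⟩ hd)⟩

/-- fusion of elements is controlled by `H` -/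
theorem fuse_elem {H : Subgroup G} (hH : Cfsg.IsPiSubgroup π H) (hhom : Homog π G) :
    ∀ n, ∀ L : Subgroup G, DomIn π L H → ∀ x ∈ H, x ∈ L → orderOf x = n →
      ∀ g ∈ L, g * x * g⁻¹ ∈ H → ∃ h ∈ H ⊓ L, h * x * h⁻¹ = g * x * g⁻¹ := by
  intro n
  induction n using Nat.strong_induction_on with
  | _ n ih =>
    intro L hdom x hxH hxL hn g hgL hg
    rcases eq_or_ne x 1 with rfl | hx1
    · exact ⟨1, one_mem _, by simp⟩
    have hn1 : n ≠ 1 := by rw [← hn, Ne, orderOf_eq_one_iff]; exact hx1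
    have hn0 : n ≠ 0 := by rw [← hn]; exact (orderOf_pos x).ne'
    set p := n.minFac with hpdef
    have := Fact.mk (Nat.minFac_prime hn1)
    set a := p ^ n.factorization p with ha
    set b := n / a with hb
    have hab : a * b = n := Nat.ordProj_mul_ordCompl_eq_self n p
    have hcop : Nat.Coprime b a := by
      rw [ha]
      exact Nat.Coprime.pow_right _ (Nat.coprime_ordCompl (Nat.minFac_prime hn1) hn0).symm
    have hpπ : p ∈ π := by
      have hpx : p ∣ orderOf x := by rw [hn]; exact Nat.minFac_dvd n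
      refine hH p (Nat.minFac_prime hn1) (hpx.trans ?_)
      rw [← Subgroup.orderOf_mk x hxH]
      exact orderOf_dvd_natCard _
    set xp := x ^ b with hxp
    set xq := x ^ a with hxq
    -- `x` is a word in its two parts
    have hdecomp : ∀ z : G, z ^ n = 1 → z = (z ^ b) ^ (Nat.gcdA b a) * (z ^ a) ^ (Nat.gcdB b a) := by
      intro z _
      rw [← zpow_natCast z b, ← zpow_mul, ← zpow_natCast z a, ← zpow_mul, ← zpow_add]
      have := Nat.gcd_eq_gcd_ab b a
      rw [hcop.gcd_eq_one] at this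
      rw [← this]
      simp
    have hD : IsPGroup p (Subgroup.zpowers xp) := by
      refine IsPGroup.of_card (n := n.factorization p) ?_
      rw [Nat.card_zpowers, hxp, orderOf_pow, hn, Nat.gcd_eq_right ⟨a, by rw [mul_comm, hab]⟩,
        Nat.div_eq_of_eq_mul_left (Nat.pos_of_ne_zero (fun h => hn0 (by simp [← hab, h]))) hab.symm]
    obtain ⟨h1, hh1, hact⟩ := fuse_p_in hhom hdom hpπ hD
      (Subgroup.zpowers_le.2 (H.pow_mem hxH b)) (Subgroup.zpowers_le.2 (L.pow_mem hxL b)) hgL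
      (fun d hd => by
        obtain ⟨i, rfl⟩ := Subgroup.mem_zpowers_iff.1 hd
        rw [← conj_zpow, hxp, ← conj_pow]
        exact H.zpow_mem (H.pow_mem hg b) i)
    have hxp1 := hact xp (Subgroup.mem_zpowers _)
    set g' := h1⁻¹ * g with hg'
    set L' := L ⊓ Subgroup.centralizer {xp} with hL'
    have hg'L' : g' ∈ L' := by
      refine ⟨L.mul_mem (L.inv_mem hh1.2) hgL, ?_⟩
      show g' ∈ Subgroup.centralizer {xp}
      rw [Subgroup.mem_centralizer_singleton_iff]
      calc g' * xp = h1⁻¹ * (g * xp * g⁻¹) * g := by rw [hg']; group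
        _ = xp * g' := by rw [← hxp1, hg']; group
    have hdom' : DomIn π L' H := by
      intro T hT hTπ
      have hnorm : T ≤ Subgroup.normalizer (Subgroup.zpowers xp : Set G) := by
        refine le_trans ?_ (Subgroup.centralizer_le_normalizer _)
        intro t ht
        rw [Subgroup.mem_centralizer_iff]
        rintro _ ⟨i, rfl⟩
        exact (Commute.zpow_left (Subgroup.mem_centralizer_singleton_iff.1 (hT ht).2).symm i)
      obtain ⟨g1, hg1L, hg1⟩ := hdom (T ⊔ Subgroup.zpowers xp)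
        (sup_le (fun t ht => (hT ht).1) (Subgroup.zpowers_le.2 (L.pow_mem hxL b)))
        (isPiSubgroup_sup hTπ (isPiSubgroup_of_isPGroup hpπ hD) hnorm)
      obtain ⟨h2, hh2, hact2⟩ := fuse_p_in hhom hdom hpπ hD
        (Subgroup.zpowers_le.2 (H.pow_mem hxH b)) (Subgroup.zpowers_le.2 (L.pow_mem hxL b)) hg1L
        (fun d hd => hg1 d (Subgroup.mem_sup_right hd))
      have e2 := hact2 xp (Subgroup.mem_zpowers _)
      refine ⟨h2⁻¹ * g1, ⟨L.mul_mem (L.inv_mem hh2.2) hg1L, ?_⟩, fun t ht => ?_⟩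
      · show h2⁻¹ * g1 ∈ Subgroup.centralizer {xp}
        rw [Subgroup.mem_centralizer_singleton_iff]
        calc h2⁻¹ * g1 * xp = h2⁻¹ * (g1 * xp * g1⁻¹) * g1 := by group
          _ = xp * (h2⁻¹ * g1) := by rw [← e2]; group
      · have : h2⁻¹ * g1 * t * (h2⁻¹ * g1)⁻¹ = h2⁻¹ * (g1 * t * g1⁻¹) * h2 := by group
        rw [this]
        exact H.mul_mem (H.mul_mem (H.inv_mem hh2.1) (hg1 t (Subgroup.mem_sup_left ht))) hh2.1
    have hord : orderOf xq < n := by
      have hb' : orderOf xq = b := by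
        rw [hxq, orderOf_pow, hn, Nat.gcd_eq_right ⟨b, hab.symm⟩]
      rw [hb']
      refine Nat.div_lt_self (Nat.pos_of_ne_zero hn0) ?_
      exact Nat.one_lt_pow ((Nat.minFac_prime hn1).factorization_pos_of_dvd hn0
        (Nat.minFac_dvd n)).ne' (Nat.minFac_prime hn1).one_lt
    have hxL' : x ∈ L' := by
      refine ⟨hxL, ?_⟩
      show x ∈ Subgroup.centralizer {xp}
      rw [Subgroup.mem_centralizer_singleton_iff]
      exact (Commute.self_pow x b).eq
    obtain ⟨h2, hh2, hact2⟩ := ih _ hord L' hdom' xq (H.pow_mem hxH a) (L'.pow_mem hxL' a) rfl g'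
      hg'L' (by
        have : g' * xq * g'⁻¹ = h1⁻¹ * (g * x * g⁻¹) ^ a * h1 := by rw [hg', conj_pow, hxq]; group
        rw [this]
        exact H.mul_mem (H.mul_mem (H.inv_mem hh1.1) (H.pow_mem hg a)) hh1.1)
    refine ⟨h1 * h2, ⟨H.mul_mem hh1.1 hh2.1, L.mul_mem hh1.2 hh2.2.1⟩, ?_⟩
    have hzn : ∀ z : G, (z * x * z⁻¹) ^ n = 1 := fun z => by
      rw [conj_pow, ← hn, pow_orderOf_eq_one]; group
    have e1 : (h1 * h2 * x * (h1 * h2)⁻¹) ^ b = (g * x * g⁻¹) ^ b := by
      rw [conj_pow, conj_pow, ← hxp, ← hxp1]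
      have hcomm := Subgroup.mem_centralizer_singleton_iff.1 hh2.2.2
      calc h1 * h2 * xp * (h1 * h2)⁻¹ = h1 * (h2 * xp) * h2⁻¹ * h1⁻¹ := by group
        _ = h1 * xp * h1⁻¹ := by rw [hcomm]; group
    have e2 : (h1 * h2 * x * (h1 * h2)⁻¹) ^ a = (g * x * g⁻¹) ^ a := by
      rw [conj_pow, conj_pow, ← hxq]
      calc h1 * h2 * xq * (h1 * h2)⁻¹ = h1 * (h2 * xq * h2⁻¹) * h1⁻¹ := by group
        _ = g * xq * g⁻¹ := by rw [hact2, hg']; group
    rw [hdecomp _ (hzn (h1 * h2)), e1, e2, ← hdecomp _ (hzn g)]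

/-- the main result -/
theorem piPrimeClosed (π : Set ℕ) (hD : Cfsg.IsDPiGroup π G) (hhom : Homog π G) :
    ∃ K : Subgroup G, ∀ x : G, x ∈ K ↔ ∀ p : ℕ, p.Prime → p ∣ orderOf x → p ∉ π := by
  have := Fintype.ofFinite G
  have hbot : Cfsg.IsPiSubgroup π (⊥ : Subgroup G) := by
    intro q hq hd
    rw [Subgroup.card_bot] at hd
    exact absurd (Nat.dvd_one.1 hd) hq.one_lt.ne'
  obtain ⟨H, -, hH⟩ := Finite.exists_le_maximal (p := Cfsg.IsPiSubgroup π) hbot
  have hdom : DomIn π ⊤ H := by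
    intro T _ hT
    obtain ⟨M, hTM, hM⟩ := Finite.exists_le_maximal (p := Cfsg.IsPiSubgroup π) hT
    obtain ⟨g, hg⟩ := hD M H hM hH
    exact ⟨g, Subgroup.mem_top _, fun t ht => hg ▸ ⟨t, hTM ht, rfl⟩⟩
  have hidx : ∀ q : ℕ, q.Prime → q ∣ H.index → q ∉ π := by
    intro q hq hd hqπ
    have := Fact.mk hq
    obtain ⟨P, hP⟩ := exists_sylow_le hdom hqπ
    exact P.not_dvd_index (hd.trans (Subgroup.index_dvd_of_le hP))
  have hHall : Nat.Coprime (Nat.card H) H.index :=
    Nat.coprime_of_dvd fun q hq h1 h2 => hidx q hq h2 (hH.prop q hq h1)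
  obtain ⟨K, hKn, hKsup, hKinf⟩ := Cfsg.Agent.Char.brauer_suzuki_complement H hHall
    (fun x hx y hy hxy => by
      obtain ⟨g, hg⟩ := isConj_iff.1 hxy
      obtain ⟨h, hh, he⟩ := fuse_elem hH.prop hhom _ ⊤ hdom x hx (Subgroup.mem_top _) rfl g
        (Subgroup.mem_top _) (hg ▸ hy)
      exact ⟨h, hh.1, he.trans hg⟩)
    (fun E _ _ _ hE => by
      obtain ⟨g, -, hg⟩ := hdom E le_top (fun q hq hd => hH.prop q hq (hd.trans hE))
      exact ⟨g, by rintro _ ⟨e, he, rfl⟩; exact hg e he⟩)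
  have hc : Subgroup.IsComplement' K H := by
    refine Subgroup.isComplement'_of_disjoint_and_mul_eq_univ (disjoint_iff.2 hKinf) ?_
    rw [← Subgroup.normal_mul, hKsup, Subgroup.coe_top]
  have hKidx : K.index = Nat.card H := hc.symm.index_eq_card
  have hKcard : Nat.card K = H.index := hc.index_eq_card.symm
  refine ⟨K, fun x => ⟨fun hx p hp hd => hidx p hp ?_, fun hx => ?_⟩⟩
  · rw [← hKcard]
    refine hd.trans ?_
    rw [← Subgroup.orderOf_mk x hx]
    exact orderOf_dvd_natCard _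
  · rw [← QuotientGroup.eq_one_iff (N := K), ← orderOf_eq_one_iff]
    by_contra hne
    obtain ⟨r, hr, hrd⟩ := Nat.exists_prime_and_dvd hne
    refine hx r hr (hrd.trans (orderOf_map_dvd (QuotientGroup.mk' K) x)) (hH.prop r hr ?_)
    rw [← hKidx]
    exact hrd.trans (orderOf_dvd_natCard _)

end Cfsg.Agent.DPiHomog
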